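import Mathlib

/-!
# Zeros and double zeros of forms on parametrised curves
-/

set_option autoImplicit false
set_option linter.style.haveILetI false

universe u

open MvPolynomial

noncomputable section

namespace Groth.Agent.H23Quartic

variable {k : Type u} [Field k]

/-- A singular point of a plane curve. -/
def Sing {σ : Type} (f : MvPolynomial σ k) (x : σ → k) : Prop :=
  eval x f = 0 ∧ ∀ i, eval x (pderiv i f) = 0

theorem pderiv_aeval {σ τ : Type} [Fintype σ] [DecidableEq σ] (φ : σ → MvPolynomial τ k) (i : τ)
    (f : MvPolynomial σ k) :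
    pderiv i (aeval φ f) = ∑ j, aeval φ (pderiv j f) * pderiv i (φ j) := by
  induction f using MvPolynomial.induction_on with
  | C a => simp
  | add p q hp hq => simp only [map_add, hp, hq, add_mul, Finset.sum_add_distrib]
  | mul_X p l hp =>
    rw [map_mul, aeval_X, pderiv_mul, hp, Finset.sum_mul]
    simp only [pderiv_mul, pderiv_X, Pi.single_apply, map_add, map_mul, aeval_X, add_mul,
      Finset.sum_add_distrib]
    refine congrArg₂ (· + ·) (Finset.sum_congr rfl fun j _ => by ring) ?_
    simp [apply_ite (aeval φ), ite_mul, mul_ite]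

theorem sing_aeval {σ τ : Type} [Fintype σ] [DecidableEq σ] (φ : σ → MvPolynomial τ k) {f : MvPolynomial σ k}
    {a : τ → k} (h : Sing f fun j => eval a (φ j)) : Sing (aeval φ f) a := by
  have he : ∀ g : MvPolynomial σ k, eval a (aeval φ g) = eval (fun j => eval a (φ j)) g := fun g => by
    induction g using MvPolynomial.induction_on with
    | C c => simp
    | add p q hp hq => simp only [map_add, hp, hq]
    | mul_X p l hp => simp only [map_mul, hp, aeval_X, eval_X]
  refine ⟨(he f).trans h.1, fun i => ?_⟩
  rw [pderiv_aeval, map_sum]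
  exact Finset.sum_eq_zero fun j _ => by rw [map_mul, he, h.2 j, zero_mul]

theorem eval_smul {σ : Type} {f : MvPolynomial σ k} {d : ℕ} (hf : f.IsHomogeneous d) (c : k) (x : σ → k) :
    eval (c • x) f = c ^ d * eval x f := by
  classical
  rw [eval_eq, eval_eq, Finset.mul_sum]
  refine Finset.sum_congr rfl fun s hs => ?_
  simp only [Pi.smul_apply, smul_eq_mul, mul_pow, Finset.prod_mul_distrib]
  rw [Finset.prod_pow_eq_pow_sum, show ∑ i ∈ s.support, s i = d from (hf.degree_eq_sum_deg_support hs).symm]
  ring

theorem isHomogeneous_pderiv {σ : Type} {f : MvPolynomial σ k} {d : ℕ} (hf : f.IsHomogeneous d) (i : σ) :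
    (pderiv i f).IsHomogeneous (d - 1) := hf.pderiv

theorem sing_smul {σ : Type} {f : MvPolynomial σ k} {d : ℕ} (hf : f.IsHomogeneous d) (c : k) {x : σ → k}
    (h : Sing f x) : Sing f (c • x) :=
  ⟨by rw [eval_smul hf, h.1, mul_zero], fun i => by rw [eval_smul (isHomogeneous_pderiv hf i), h.2 i, mul_zero]⟩

variable [IsAlgClosed k]

/-- A squarefree polynomial divides whatever vanishes on its zeros. -/
theorem dvd_of_vanish {σ : Type} [Finite σ] {Q f : MvPolynomial σ k} (hQ : Squarefree Q)
    (h : ∀ x : σ → k, eval x Q = 0 → eval x f = 0) : Q ∣ f := by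
  have hmem : f ∈ vanishingIdeal k (zeroLocus k (Ideal.span {Q})) := fun x hx => by
    have := hx Q (Ideal.mem_span_singleton_self Q)
    rw [aeval_eq_eval] at this ⊢
    exact h x this
  rw [vanishingIdeal_zeroLocus_eq_radical] at hmem
  obtain ⟨n, hn⟩ := hmem
  exact hQ.isRadical n f (Ideal.mem_span_singleton.1 hn)

omit [IsAlgClosed k] in
/-- The linear form of a point of the line. -/
theorem irreducible_linear {a : Fin 2 → k} (ha : a ≠ 0) :
    Irreducible (C (a 1) * X 0 - C (a 0) * X 1 : MvPolynomial (Fin 2) k) := by
  have hhom : (C (a 1) * X 0 - C (a 0) * X 1 : MvPolynomial (Fin 2) k).IsHomogeneous 1 :=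
    (isHomogeneous_C_mul_X _ _).sub (isHomogeneous_C_mul_X _ _)
  have hne : (C (a 1) * X 0 - C (a 0) * X 1 : MvPolynomial (Fin 2) k) ≠ 0 := fun h => ha (by
    have h0 := congrArg (eval (![1, 0] : Fin 2 → k)) h
    have h1 := congrArg (eval (![0, 1] : Fin 2 → k)) h
    simp at h0 h1
    funext i
    fin_cases i <;> simp [h0, h1])
  refine irreducible_of_totalDegree_eq_one (hhom.totalDegree hne) fun x hx => ?_
  by_contra hu
  rw [isUnit_iff_ne_zero, not_not] at hu
  subst hu
  refine hne (MvPolynomial.ext _ _ fun m => ?_)
  rw [coeff_zero]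
  exact zero_dvd_iff.1 (hx m)

/-- Binary forms with too many zeros vanish: a zero counts once, a singular zero twice. -/
theorem eq_zero_of_zeros {D : ℕ} {F : MvPolynomial (Fin 2) k} (hF : F.IsHomogeneous D) {ι : Type} [Fintype ι]
    (a : ι → Fin 2 → k) (hne : ∀ i, a i ≠ 0)
    (hind : ∀ i j, i ≠ j → a i 0 * a j 1 - a i 1 * a j 0 ≠ 0) (m : ℕ) (hm : m = 1 ∨ m = 2)
    (h0 : ∀ i, eval (a i) F = 0) (h1 : m = 2 → ∀ i, Sing F (a i)) (hD : D < m * Fintype.card ι) : F = 0 := by
  classical
  let l : ι → MvPolynomial (Fin 2) k := fun i => C (a i 1) * X 0 - C (a i 0) * X 1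
  have hl : ∀ i, Irreducible (l i) := fun i => irreducible_linear (hne i)
  have heval : ∀ i (x : Fin 2 → k), eval x (l i) = a i 1 * x 0 - a i 0 * x 1 := fun i x => by simp [l]
  have hdvd : ∀ (i : ι) (G : MvPolynomial (Fin 2) k) (E : ℕ), G.IsHomogeneous E → eval (a i) G = 0 → l i ∣ G := by
    intro i G E hG hz
    refine dvd_of_vanish (hl i).squarefree fun x hx => ?_
    rw [heval, sub_eq_zero] at hx
    by_cases hx0 : x = 0
    · subst hx0
      have := eval_smul hG (0 : k) (a i)
      rw [zero_smul, hz, mul_zero] at this
      exact this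
    · obtain ⟨c, hc⟩ : ∃ c : k, x = c • a i := by
        by_cases h : a i 1 = 0
        · have h0' : a i 0 ≠ 0 := fun e => hne i (funext fun j => by fin_cases j <;> assumption)
          refine ⟨x 0 / a i 0, funext fun j => ?_⟩
          rw [h, zero_mul] at hx
          fin_cases j
          · simp [h0']
          · simp [h, (mul_eq_zero.1 hx.symm).resolve_left h0']
        · refine ⟨x 1 / a i 1, funext fun j => ?_⟩
          fin_cases j
          · simp only [Fin.zero_eta, Pi.smul_apply, smul_eq_mul]
            field_simp
            linear_combination hx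
          · simp [h]
      rw [hc, eval_smul hG, hz, mul_zero]
  have hpow : ∀ i, l i ^ m ∣ F := by
    intro i
    rcases hm with rfl | rfl
    · rw [pow_one]; exact hdvd i F D hF (h0 i)
    · obtain ⟨G, hG⟩ := hdvd i F D hF (h0 i)
      by_cases hF0 : F = 0
      · rw [hF0]; exact dvd_zero _
      have hGh : G.IsHomogeneous (D - 1) := by
        rw [← mem_homogeneousSubmodule]
        have hlh : (l i).IsHomogeneous 1 := (isHomogeneous_C_mul_X _ _).sub (isHomogeneous_C_mul_X _ _)
        have hG' : G = homogeneousComponent (D - 1) G := by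
          refine mul_left_cancel₀ (hl i).ne_zero ?_
          have hD1 : 1 ≤ D := by
            by_contra h'
            have h2 := hF.totalDegree hF0
            rw [hG, totalDegree_mul_of_isDomain (hl i).ne_zero (fun e => hF0 (by rw [hG, e, mul_zero])),
              hlh.totalDegree (hl i).ne_zero] at h2
            omega
          conv_lhs => rw [← hG, ← homogeneousComponent_eq_self hF, hG, ← sum_homogeneousComponent G, Finset.mul_sum,
            map_sum]
          rw [Finset.sum_eq_single (D - 1)]
          · rw [homogeneousComponent_eq_self (by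
              have := hlh.mul (homogeneousComponent_isHomogeneous (D - 1) G)
              rwa [show 1 + (D - 1) = D by omega] at this)]
          · intro e _ he
            have h3 := homogeneousComponent_of_mem (m := D) (hlh.mul (homogeneousComponent_isHomogeneous e G))
            rw [h3, if_neg (by omega)]
          · intro hmem
            rw [Finset.mem_range] at hmem
            rw [homogeneousComponent_eq_zero (D - 1) G (by omega), mul_zero, map_zero]
        rw [hG']
        exact homogeneousComponent_mem _ _
      have hG0 : eval (a i) G = 0 := by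
        by_contra hG0
        refine hne i (funext fun j => ?_)
        have h2 : ∀ t : Fin 2, eval (a i) (pderiv t (l i)) = 0 := fun t => by
          have h := (h1 rfl i).2 t
          rw [hG, pderiv_mul, map_add, map_mul, map_mul, heval] at h
          rw [show a i 1 * a i 0 - a i 0 * a i 1 = 0 by ring, zero_mul, add_zero] at h
          exact (mul_eq_zero.1 h).resolve_right hG0
        have e0 := h2 0
        have e1 := h2 1
        simp [l, pderiv_X] at e0 e1
        fin_cases j <;> assumption
      obtain ⟨G', hG'⟩ := hdvd i G (D - 1) hGh hG0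
      exact ⟨G', by rw [hG, hG']; ring⟩
  have hcop : ∀ i j, i ≠ j → IsRelPrime (l i ^ m) (l j ^ m) := fun i j hij => by
    refine ((hl i).isRelPrime_iff_not_dvd.2 fun h => hind i j hij ?_).pow
    obtain ⟨c, hc⟩ := h
    have := congrArg (eval (a i)) hc
    rw [map_mul, heval, heval, show a i 1 * a i 0 - a i 0 * a i 1 = 0 by ring, zero_mul] at this
    linear_combination this
  by_contra hF0
  have hprod : ∏ i, l i ^ m ∣ F := Fintype.prod_dvd_of_isRelPrime (fun i j hij => hcop i j hij) hpow
  obtain ⟨G, hG⟩ := hprod
  have hP : (∏ i, l i ^ m).IsHomogeneous (m * Fintype.card ι) := by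
    have := IsHomogeneous.prod Finset.univ (fun i => l i ^ m) (fun _ => m) fun i _ => by
      simpa using ((isHomogeneous_C_mul_X (a i 1) 0).sub (isHomogeneous_C_mul_X (a i 0) 1)).pow m
    simpa [mul_comm] using this
  have hP0 : (∏ i, l i ^ m) ≠ 0 := Finset.prod_ne_zero_iff.2 fun i _ => pow_ne_zero _ (hl i).ne_zero
  have h2 := hF.totalDegree hF0
  rw [hG, totalDegree_mul_of_isDomain hP0 (fun e => hF0 (by rw [hG, e, mul_zero])), hP.totalDegree hP0] at h2
  omega

end Groth.Agent.H23Quartic
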