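import Groth.Agent.H23Quartic.Basic

/-!
# Singular points of reduced plane curves of degree at most four
-/

set_option autoImplicit false
set_option linter.style.haveILetI false

universe u

open MvPolynomial

noncomputable section

namespace Groth.Agent.H23Quartic

variable {k : Type u} [Field k]

local notation "P2" => Projectivization k (Fin 3 → k)

theorem sing_rep_iff {f : MvPolynomial (Fin 3) k} {d : ℕ} (hf : f.IsHomogeneous d) {c : k} (hc : c ≠ 0)
    (x : Fin 3 → k) : Sing f (c • x) ↔ Sing f x := by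
  refine ⟨fun h => ?_, sing_smul hf c⟩
  have := sing_smul hf c⁻¹ h
  rwa [inv_smul_smul₀ hc] at this

/-- A linear form. -/
def lin (c : Fin 3 → k) : MvPolynomial (Fin 3) k := C (c 0) * X 0 + C (c 1) * X 1 + C (c 2) * X 2

theorem isHomogeneous_lin (c : Fin 3 → k) : (lin c).IsHomogeneous 1 :=
  ((isHomogeneous_C_mul_X _ _).add (isHomogeneous_C_mul_X _ _)).add (isHomogeneous_C_mul_X _ _)

theorem eval_lin (c x : Fin 3 → k) : eval x (lin c) = c 0 * x 0 + c 1 * x 1 + c 2 * x 2 := by simp [lin]

theorem pderiv_lin (c : Fin 3 → k) (i : Fin 3) : pderiv i (lin c) = C (c i) := by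
  fin_cases i <;> simp [lin, pderiv_X]

theorem lin_ne_zero {c : Fin 3 → k} (hc : c ≠ 0) : lin c ≠ 0 := fun h => hc (funext fun i => by
  have := congrArg (pderiv i) h
  rw [pderiv_lin, map_zero, map_eq_zero_iff _ (C_injective _ _)] at this
  exact this)

theorem irreducible_lin {c : Fin 3 → k} (hc : c ≠ 0) : Irreducible (lin c) := by
  refine irreducible_of_totalDegree_eq_one ((isHomogeneous_lin c).totalDegree (lin_ne_zero hc)) fun x hx => ?_
  by_contra hu
  rw [isUnit_iff_ne_zero, not_not] at hu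
  subst hu
  refine lin_ne_zero hc (MvPolynomial.ext _ _ fun m => ?_)
  rw [coeff_zero]
  exact zero_dvd_iff.1 (hx m)

theorem not_sing_lin {c : Fin 3 → k} (hc : c ≠ 0) (x : Fin 3 → k) : ¬ Sing (lin c) x := fun h =>
  hc (funext fun i => by have := h.2 i; rwa [pderiv_lin, eval_C] at this)

/-- The singular points of a product. -/
theorem sing_mul {a b : MvPolynomial (Fin 3) k} {x : Fin 3 → k} (h : Sing (a * b) x) :
    Sing a x ∨ Sing b x ∨ (eval x a = 0 ∧ eval x b = 0) := by
  have h1 : ∀ i, eval x (pderiv i a) * eval x b + eval x a * eval x (pderiv i b) = 0 := fun i => by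
    have := h.2 i
    rwa [pderiv_mul, map_add, map_mul, map_mul] at this
  have h0 : eval x a * eval x b = 0 := by have := h.1; rwa [map_mul] at this
  by_cases ha : eval x a = 0
  · by_cases hb : eval x b = 0
    · exact Or.inr (Or.inr ⟨ha, hb⟩)
    · exact Or.inl ⟨ha, fun i => by
        have := h1 i; rw [ha, zero_mul, add_zero] at this; exact (mul_eq_zero.1 this).resolve_right hb⟩
  · refine Or.inr (Or.inl ⟨(mul_eq_zero.1 h0).resolve_left ha, fun i => ?_⟩)
    have := h1 i
    rw [(mul_eq_zero.1 h0).resolve_left ha, mul_zero, zero_add] at this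
    exact (mul_eq_zero.1 this).resolve_left ha

theorem isHomogeneous_of_mul {a b : MvPolynomial (Fin 3) k} {e d : ℕ} (ha : a.IsHomogeneous e) (ha0 : a ≠ 0)
    (hab : (a * b).IsHomogeneous (e + d)) : b.IsHomogeneous d := by
  classical
  have hkey : b = homogeneousComponent d b := by
    refine mul_left_cancel₀ ha0 ?_
    conv_lhs => rw [← homogeneousComponent_eq_self hab, ← sum_homogeneousComponent b, Finset.mul_sum, map_sum]
    rw [Finset.sum_eq_single d]
    · rw [homogeneousComponent_eq_self (ha.mul (homogeneousComponent_isHomogeneous d b))]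
    · intro j _ hj
      have h3 := homogeneousComponent_of_mem (m := e + d) (ha.mul (homogeneousComponent_isHomogeneous j b))
      rw [h3, if_neg (by omega)]
    · intro hmem
      rw [Finset.mem_range] at hmem
      rw [homogeneousComponent_eq_zero d b (by omega), mul_zero, map_zero]
  rw [hkey]
  exact homogeneousComponent_isHomogeneous d b

variable [IsAlgClosed k]

/-- Points of a parametrised curve at which a form vanishes. -/
theorem dvd_of_curve {Q : MvPolynomial (Fin 3) k} (hQ : Squarefree Q) (φ : Fin 3 → MvPolynomial (Fin 2) k) {e : ℕ}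
    (hφ : ∀ j, (φ j).IsHomogeneous e)
    (honto : ∀ x : Fin 3 → k, x ≠ 0 → eval x Q = 0 →
      ∃ (a : Fin 2 → k) (c : k), a ≠ 0 ∧ c ≠ 0 ∧ (fun j => eval a (φ j)) = c • x)
    {G : MvPolynomial (Fin 3) k} {d : ℕ} (hd : 0 < d) (hG : G.IsHomogeneous d) (s : Finset P2) (m : ℕ)
    (hm : m = 1 ∨ m = 2) (hs : ∀ p ∈ s, eval p.rep Q = 0) (h0 : ∀ p ∈ s, eval p.rep G = 0)
    (h1 : m = 2 → ∀ p ∈ s, Sing G p.rep) (hcard : e * d < m * s.card) : Q ∣ G := by
  classical
  let S := Fin s.card
  let pt : S → P2 := fun i => (s.equivFin.symm i).1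
  have hpt : ∀ i, pt i ∈ s := fun i => (s.equivFin.symm i).2
  choose a c ha hc hac using fun i : S => honto (pt i).rep (pt i).rep_nonzero (hs _ (hpt i))
  have hev : ∀ (g : MvPolynomial (Fin 3) k) (b : Fin 2 → k), eval b (aeval φ g) = eval (fun j => eval b (φ j)) g := by
    intro g b
    induction g using MvPolynomial.induction_on with
    | C c => simp
    | add p q hp hq => simp only [map_add, hp, hq]
    | mul_X p l hp => simp only [map_mul, hp, aeval_X, eval_X]
  have hind : ∀ i j, i ≠ j → a i 0 * a j 1 - a i 1 * a j 0 ≠ 0 := by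
    intro i j hij hz
    obtain ⟨t, ht⟩ : ∃ t : k, a j = t • a i := by
      by_cases h : a i 0 = 0
      · have h1' : a i 1 ≠ 0 := fun e' => ha i (funext fun l => by fin_cases l <;> assumption)
        refine ⟨a j 1 / a i 1, funext fun l => ?_⟩
        rw [h, zero_mul, zero_sub, neg_eq_zero] at hz
        fin_cases l
        · simp [h, (mul_eq_zero.1 hz).resolve_left h1']
        · simp [h1']
      · refine ⟨a j 0 / a i 0, funext fun l => ?_⟩
        fin_cases l
        · simp [h]
        · simp only [Fin.mk_one, Pi.smul_apply, smul_eq_mul]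
          field_simp
          linear_combination hz
    have h2 : (fun l => eval (a j) (φ l)) = t ^ e • fun l => eval (a i) (φ l) := funext fun l => by
      rw [ht, eval_smul (hφ l)]; rfl
    rw [hac, hac, smul_smul] at h2
    refine hij (s.equivFin.symm.injective (Subtype.ext ?_))
    show pt i = pt j
    rw [← (pt i).mk_rep, ← (pt j).mk_rep, eq_comm, Projectivization.mk_eq_mk_iff']
    exact ⟨(c j)⁻¹ * (t ^ e * c i), by rw [← smul_smul, ← h2, inv_smul_smul₀ (hc j)]⟩
  have hF : aeval φ G = 0 := by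
    refine eq_zero_of_zeros (D := e * d) ?_ a ha hind m hm (fun i => ?_) (fun hm2 i => ?_) ?_
    · exact hG.aeval φ hφ
    · rw [hev, hac, eval_smul hG, h0 _ (hpt i), mul_zero]
    · refine sing_aeval φ ?_
      rw [hac]
      exact sing_smul hG _ (h1 hm2 _ (hpt i))
    · simpa [S] using hcard
  refine dvd_of_vanish hQ fun x hx => ?_
  by_cases hx0 : x = 0
  · subst hx0
    have := eval_smul hG (0 : k) (0 : Fin 3 → k)
    rw [zero_smul, zero_pow hd.ne', zero_mul] at this
    exact this
  · obtain ⟨b, t, -, ht, hbt⟩ := honto x hx0 hx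
    have h3 := hev G b
    rw [hF, map_zero, hbt, eval_smul hG, eq_comm] at h3
    exact (mul_eq_zero.1 h3).resolve_left (pow_ne_zero _ ht)

/-- A line containing too many zeros of a form is a component. -/
theorem lin_dvd {c : Fin 3 → k} (hc : c ≠ 0) {G : MvPolynomial (Fin 3) k} {d : ℕ} (hd : 0 < d)
    (hG : G.IsHomogeneous d) (s : Finset P2) (m : ℕ) (hm : m = 1 ∨ m = 2) (hs : ∀ p ∈ s, eval p.rep (lin c) = 0)
    (h0 : ∀ p ∈ s, eval p.rep G = 0) (h1 : m = 2 → ∀ p ∈ s, Sing G p.rep) (hcard : d < m * s.card) : lin c ∣ G := by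
  classical
  obtain ⟨u, v, huv⟩ : ∃ u v : Fin 3 → k, ∀ x : Fin 3 → k, eval x (lin c) = 0 →
      ∃ a : Fin 2 → k, x = a 0 • u + a 1 • v := by
    obtain ⟨i, hi⟩ : ∃ i, c i ≠ 0 := Function.ne_iff.1 hc
    fin_cases i <;> simp only [Fin.zero_eta, Fin.mk_one, Fin.reduceFinMk] at hi
    · refine ⟨![-c 1 / c 0, 1, 0], ![-c 2 / c 0, 0, 1], fun x hx => ⟨![x 1, x 2], ?_⟩⟩
      rw [eval_lin] at hx
      funext j; fin_cases j
      · simp; field_simp; linear_combination hx
      · simp
      · simp
    · refine ⟨![1, -c 0 / c 1, 0], ![0, -c 2 / c 1, 1], fun x hx => ⟨![x 0, x 2], ?_⟩⟩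
      rw [eval_lin] at hx
      funext j; fin_cases j
      · simp
      · simp; field_simp; linear_combination hx
      · simp
    · refine ⟨![1, 0, -c 0 / c 2], ![0, 1, -c 1 / c 2], fun x hx => ⟨![x 0, x 1], ?_⟩⟩
      rw [eval_lin] at hx
      funext j; fin_cases j
      · simp
      · simp
      · simp; field_simp; linear_combination hx
  refine dvd_of_curve (irreducible_lin hc).squarefree (fun j => C (u j) * X 0 + C (v j) * X 1) (e := 1)
    (fun j => (isHomogeneous_C_mul_X _ _).add (isHomogeneous_C_mul_X _ _)) (fun x hx0 hx => ?_) hd hG s m hm hs h0 h1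
    (by rw [one_mul]; exact hcard)
  obtain ⟨a, rfl⟩ := huv x hx
  refine ⟨a, 1, fun h => hx0 (by simp [h]), one_ne_zero, ?_⟩
  rw [one_smul]
  funext j
  simp [mul_comm]

omit [IsAlgClosed k] in
theorem exists_line (p q : Fin 3 → k) : ∃ c : Fin 3 → k, c ≠ 0 ∧ eval p (lin c) = 0 ∧ eval q (lin c) = 0 := by
  let T : (Fin 3 → k) →ₗ[k] (Fin 2 → k) :=
    Matrix.mulVecLin (Matrix.of ![p, q])
  have : LinearMap.ker T ≠ ⊥ := LinearMap.ker_ne_bot_of_finrank_lt (by simp)
  obtain ⟨c, hc, hc0⟩ := Submodule.exists_mem_ne_zero_of_ne_bot this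
  have h0 := congrFun (LinearMap.mem_ker.1 hc) 0
  have h1 := congrFun (LinearMap.mem_ker.1 hc) 1
  refine ⟨c, hc0, ?_, ?_⟩ <;> rw [eval_lin]
  · simp [T, Matrix.mulVec, dotProduct, Fin.sum_univ_three] at h0; linear_combination h0
  · simp [T, Matrix.mulVec, dotProduct, Fin.sum_univ_three] at h1; linear_combination h1

/-- Splitting off a linear component. -/
theorem card_le_of_lin {c : Fin 3 → k} (hc : c ≠ 0) {f : MvPolynomial (Fin 3) k} {d N : ℕ}
    (hf : f.IsHomogeneous (d + 1)) (hd : 0 < d) (hred : Squarefree f) (hdvd : lin c ∣ f)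
    (IH : ∀ g : MvPolynomial (Fin 3) k, g.IsHomogeneous d → Squarefree g →
      ∀ s : Finset P2, (∀ p ∈ s, Sing g p.rep) → s.card ≤ N)
    (s : Finset P2) (hs : ∀ p ∈ s, Sing f p.rep) : s.card ≤ d + N := by
  classical
  obtain ⟨g, rfl⟩ := hdvd
  have hg : g.IsHomogeneous d := isHomogeneous_of_mul (isHomogeneous_lin c) (lin_ne_zero hc) (by rwa [add_comm 1 d])
  have hgsq : Squarefree g := hred.of_mul_right
  let sA := s.filter fun p => eval p.rep (lin c) = 0 ∧ eval p.rep g = 0
  let sB := s.filter fun p => Sing g p.rep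
  have hsub : s ⊆ sA ∪ sB := fun p hp => by
    rcases sing_mul (hs p hp) with h | h | h
    · exact absurd h (not_sing_lin hc _)
    · exact Finset.mem_union_right _ (Finset.mem_filter.2 ⟨hp, h⟩)
    · exact Finset.mem_union_left _ (Finset.mem_filter.2 ⟨hp, h⟩)
  have hA : sA.card ≤ d := by
    by_contra hlt
    have hdv := lin_dvd hc hd hg sA 1 (Or.inl rfl) (fun p hp => (Finset.mem_filter.1 hp).2.1)
      (fun p hp => (Finset.mem_filter.1 hp).2.2) (fun h => absurd h (by norm_num)) (by omega)
    exact (irreducible_lin hc).not_isUnit (hred _ (mul_dvd_mul_left _ hdv))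
  have hB := IH g hg hgsq sB fun p hp => (Finset.mem_filter.1 hp).2
  exact (Finset.card_le_card hsub).trans ((Finset.card_union_le _ _).trans (add_le_add hA hB))

omit [IsAlgClosed k] in
theorem sing_linear {f : MvPolynomial (Fin 3) k} (hf : f.IsHomogeneous 1) (hf0 : f ≠ 0) (x : Fin 3 → k) :
    ¬ Sing f x := by
  rintro ⟨-, h⟩
  have hc : ∀ i, pderiv i f = 0 := fun i => by
    obtain ⟨r, hr⟩ := (⟨_, (totalDegree_eq_zero_iff_eq_C (p := pderiv i f)).1
      (Nat.le_zero.1 (hf.pderiv.totalDegree_le))⟩ : ∃ r, pderiv i f = C r)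
    have := h i
    rw [hr, eval_C] at this
    rw [hr, this, map_zero]
  have := hf.sum_X_mul_pderiv
  simp [hc] at this
  exact hf0 this.symm

/-- A reduced conic has at most one singular point. -/
theorem card_sing_conic {f : MvPolynomial (Fin 3) k} (hf : f.IsHomogeneous 2) (hred : Squarefree f)
    (s : Finset P2) (hs : ∀ p ∈ s, Sing f p.rep) : s.card ≤ 1 := by
  classical
  by_contra h
  obtain ⟨p, hp, q, hq, hpq⟩ := Finset.one_lt_card.1 (not_le.1 h)
  obtain ⟨c, hc, hcp, hcq⟩ := exists_line p.rep q.rep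
  have hdvd : lin c ∣ f := lin_dvd hc two_pos hf {p, q} 2 (Or.inr rfl)
    (by simp [hcp, hcq]) (by simp [(hs p hp).1, (hs q hq).1]) (fun _ => by simp [hs p hp, hs q hq])
    (by simp [hpq])
  have := card_le_of_lin hc hf one_pos hred hdvd (N := 0) (fun g hg hgsq t ht => by
    simp only [Nat.le_zero, Finset.card_eq_zero, Finset.eq_empty_iff_forall_notMem]
    exact fun x hx => sing_linear hg hgsq.ne_zero _ (ht x hx)) s hs
  omega

/-- A reduced cubic has at most three singular points. -/
theorem card_sing_cubic {f : MvPolynomial (Fin 3) k} (hf : f.IsHomogeneous 3) (hred : Squarefree f)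
    (s : Finset P2) (hs : ∀ p ∈ s, Sing f p.rep) : s.card ≤ 3 := by
  classical
  by_contra h
  obtain ⟨p, hp, q, hq, hpq⟩ := Finset.one_lt_card.1 (show 1 < s.card by omega)
  obtain ⟨c, hc, hcp, hcq⟩ := exists_line p.rep q.rep
  have hdvd : lin c ∣ f := lin_dvd hc three_pos hf {p, q} 2 (Or.inr rfl)
    (by simp [hcp, hcq]) (by simp [(hs p hp).1, (hs q hq).1]) (fun _ => by simp [hs p hp, hs q hq])
    (by simp [hpq])
  have := card_le_of_lin hc hf two_pos hred hdvd (N := 1) (fun g hg hgsq => card_sing_conic hg hgsq) s hs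
  omega

end Groth.Agent.H23Quartic
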