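import Groth.Agent.H23Quartic.Plane

/-!
# A reduced quartic has at most six singular points
-/

set_option autoImplicit false
set_option linter.style.haveILetI false

universe u

open MvPolynomial

noncomputable section

namespace Groth.Agent.H23Quartic

variable {k : Type u} [Field k]

local notation "P2" => Projectivization k (Fin 3 → k)

/-- The quadratic form with given six coefficients. -/
def quad (c : Fin 6 → k) : MvPolynomial (Fin 3) k :=
  C (c 0) * (X 0 * X 0) + C (c 1) * (X 1 * X 1) + C (c 2) * (X 2 * X 2) +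
    C (c 3) * (X 1 * X 2) + C (c 4) * (X 0 * X 2) + C (c 5) * (X 0 * X 1)

theorem isHomogeneous_quad (c : Fin 6 → k) : (quad c).IsHomogeneous 2 := by
  have h : ∀ (r : k) (i j : Fin 3), (C r * (X i * X j) : MvPolynomial (Fin 3) k).IsHomogeneous 2 := fun r i j =>
    ((isHomogeneous_X k i).mul (isHomogeneous_X k j)).C_mul r
  exact (((((h _ _ _).add (h _ _ _)).add (h _ _ _)).add (h _ _ _)).add (h _ _ _)).add (h _ _ _)

theorem eval_quad (c : Fin 6 → k) (x : Fin 3 → k) :
    eval x (quad c) = c 0 * (x 0 * x 0) + c 1 * (x 1 * x 1) + c 2 * (x 2 * x 2) +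
      c 3 * (x 1 * x 2) + c 4 * (x 0 * x 2) + c 5 * (x 0 * x 1) := by simp [quad]

theorem quad_ne_zero {c : Fin 6 → k} (hc : c ≠ 0) : quad c ≠ 0 := fun h => hc (by
  have e := fun x : Fin 3 → k => (eval_quad c x).symm.trans (by rw [h, map_zero] : _ = (0 : k))
  have h0 := e ![1, 0, 0]; have h1 := e ![0, 1, 0]; have h2 := e ![0, 0, 1]
  have h3 := e ![0, 1, 1]; have h4 := e ![1, 0, 1]; have h5 := e ![1, 1, 0]
  simp at h0 h1 h2 h3 h4 h5
  funext i
  fin_cases i <;> simp
  · exact h0
  · exact h1
  · exact h2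
  · linear_combination h3 - h1 - h2
  · linear_combination h4 - h0 - h2
  · linear_combination h5 - h0 - h1)

theorem exists_conic (p : Fin 5 → Fin 3 → k) : ∃ c : Fin 6 → k, c ≠ 0 ∧ ∀ i, eval (p i) (quad c) = 0 := by
  let M : Matrix (Fin 5) (Fin 6) k := Matrix.of fun i => ![p i 0 * p i 0, p i 1 * p i 1, p i 2 * p i 2,
    p i 1 * p i 2, p i 0 * p i 2, p i 0 * p i 1]
  have : LinearMap.ker (Matrix.mulVecLin M) ≠ ⊥ := LinearMap.ker_ne_bot_of_finrank_lt (by simp)
  obtain ⟨c, hc, hc0⟩ := Submodule.exists_mem_ne_zero_of_ne_bot this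
  refine ⟨c, hc0, fun i => ?_⟩
  have h := congrFun (LinearMap.mem_ker.1 hc) i
  simp only [Matrix.mulVecLin_apply, Matrix.mulVec, dotProduct, Fin.sum_univ_six, M, Matrix.of_apply,
    Pi.zero_apply] at h
  rw [eval_quad]
  simp [Fin.reduceFinMk] at h
  linear_combination h

variable [IsAlgClosed k]

/-- Five points, no three on a line, lie on a conic with a parametrisation. -/
theorem exists_param (p : Fin 5 → Fin 3 → k) (hp : ∀ i, p i ≠ 0)
    (hline : ∀ c : Fin 3 → k, c ≠ 0 → ∀ S : Finset (Fin 5), 3 ≤ S.card → ∃ i ∈ S, eval (p i) (lin c) ≠ 0) :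
    ∃ (Q : MvPolynomial (Fin 3) k) (φ : Fin 3 → MvPolynomial (Fin 2) k), Irreducible Q ∧ Q.IsHomogeneous 2 ∧
      (∀ i, eval (p i) Q = 0) ∧ (∀ j, (φ j).IsHomogeneous 2) ∧
      ∀ x : Fin 3 → k, x ≠ 0 → eval x Q = 0 →
        ∃ (a : Fin 2 → k) (c : k), a ≠ 0 ∧ c ≠ 0 ∧ (fun j => eval a (φ j)) = c • x := by
  classical
  obtain ⟨c, hc, hvan⟩ := exists_conic p
  -- no two lines contain the five points
  have htwo : ∀ a b : Fin 3 → k, (∀ i, eval (p i) (lin a) = 0 ∨ eval (p i) (lin b) = 0) → a = 0 ∨ b = 0 := by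
    intro a b hab
    by_contra h
    push Not at h
    let S := Finset.univ.filter fun i => eval (p i) (lin a) = 0
    by_cases hS : 3 ≤ S.card
    · obtain ⟨i, hi, hne⟩ := hline a h.1 S hS
      exact hne (Finset.mem_filter.1 hi).2
    · have hS' : 3 ≤ Sᶜ.card := by rw [Finset.card_compl, Fintype.card_fin]; omega
      obtain ⟨i, hi, hne⟩ := hline b h.2 _ hS'
      refine hne ((hab i).resolve_left fun h' => ?_)
      exact Finset.mem_compl.1 hi (Finset.mem_filter.2 ⟨Finset.mem_univ i, h'⟩)
  have hirr : Irreducible (quad c) := by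
    refine ⟨fun hu => ?_, fun a b hab => ?_⟩
    · have h2 := (isHomogeneous_quad c).totalDegree (quad_ne_zero hc)
      rw [(MvPolynomial.isUnit_iff_totalDegree_of_isReduced.mp hu).2] at h2
      omega
    · by_contra hn
      push Not at hn
      have ha0 : a ≠ 0 := fun e => quad_ne_zero hc (by rw [hab, e, zero_mul])
      have hb0 : b ≠ 0 := fun e => quad_ne_zero hc (by rw [hab, e, mul_zero])
      have hdeg : ∀ g : MvPolynomial (Fin 3) k, g ≠ 0 → ¬ IsUnit g → 1 ≤ g.totalDegree := fun g hg hu => by
        by_contra h0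
        obtain ⟨r, hr⟩ := (⟨_, (totalDegree_eq_zero_iff_eq_C (p := g)).1 (by omega)⟩ : ∃ r, g = C r)
        exact hu (hr ▸ (Ne.isUnit (fun e => hg (by rw [hr, e, map_zero])) : IsUnit r).map C)
      have h2 := (isHomogeneous_quad c).totalDegree (quad_ne_zero hc)
      rw [hab, totalDegree_mul_of_isDomain ha0 hb0] at h2
      have hA := hdeg a ha0 hn.1
      have hB := hdeg b hb0 hn.2
      have split : ∀ g : MvPolynomial (Fin 3) k, g.totalDegree = 1 →
          g = homogeneousComponent 1 g + C (coeff 0 g) := fun g hg => by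
        conv_lhs => rw [← sum_homogeneousComponent g, hg, Finset.sum_range_succ, Finset.sum_range_one]
        rw [homogeneousComponent_zero, add_comm]
      let a1 := homogeneousComponent 1 a
      let b1 := homogeneousComponent 1 b
      have hprod : quad c = a1 * b1 := by
        have e := congrArg (homogeneousComponent 2) hab
        rw [homogeneousComponent_eq_self (isHomogeneous_quad c), split a (by omega), split b (by omega)] at e
        have ha1 := homogeneousComponent_isHomogeneous 1 a
        have hb1 := homogeneousComponent_isHomogeneous 1 b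
        rw [e, show (a1 + C (coeff 0 a)) * (b1 + C (coeff 0 b)) =
          a1 * b1 + (C (coeff 0 b) * a1 + C (coeff 0 a) * b1) + C (coeff 0 a * coeff 0 b) by rw [map_mul]; ring,
          map_add, map_add, homogeneousComponent_eq_self (ha1.mul hb1),
          homogeneousComponent_of_mem ((ha1.C_mul _).add (hb1.C_mul _)),
          homogeneousComponent_of_mem (isHomogeneous_C (Fin 3) (coeff 0 a * coeff 0 b))]
        simp [a1, b1]
      have hlin : ∀ g : MvPolynomial (Fin 3) k, g.IsHomogeneous 1 → ∃ w, g = lin w := fun g hg => by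
        refine ⟨fun i => coeff (Finsupp.single i 1) g, ?_⟩
        have hgl := hg.sum_X_mul_pderiv
        have hc' : ∀ i, pderiv i g = C (coeff (Finsupp.single i 1) g) := fun i => by
          obtain ⟨r, hr⟩ := (⟨_, (totalDegree_eq_zero_iff_eq_C (p := pderiv i g)).1
            (Nat.le_zero.1 (hg.pderiv.totalDegree_le))⟩ : ∃ r, pderiv i g = C r)
          have h3 := congrArg (coeff 0) hr
          rw [coeff_pderiv, coeff_C, if_pos rfl] at h3
          simp at h3
          rw [hr, h3]
        rw [one_smul, Fin.sum_univ_three, hc', hc', hc'] at hgl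
        conv_lhs => rw [← hgl]
        rw [lin]; ring
      obtain ⟨wa, hwa⟩ := hlin a1 (homogeneousComponent_isHomogeneous 1 a)
      obtain ⟨wb, hwb⟩ := hlin b1 (homogeneousComponent_isHomogeneous 1 b)
      rcases htwo wa wb fun i => by
          have := hvan i
          rw [hprod, hwa, hwb, map_mul] at this
          exact mul_eq_zero.1 this with h | h <;>
        exact quad_ne_zero hc (by rw [hprod, hwa, hwb, h]; simp [lin])
  -- coordinates at the first three points
  let P : Matrix (Fin 3) (Fin 3) k := Matrix.of fun i j => p (Fin.castLE (by omega) j) i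
  have hPdet : P.det ≠ 0 := fun h => by
    obtain ⟨w, hw, hwP⟩ := (Matrix.exists_vecMul_eq_zero_iff (M := P)).2 h
    obtain ⟨i, hi, hne⟩ := hline w hw {0, 1, 2} (by decide)
    refine hne ?_
    have hj : ∀ j : Fin 3, eval (p (Fin.castLE (by omega) j)) (lin w) = 0 := fun j => by
      have := congrFun hwP j
      simpa [Matrix.vecMul, dotProduct, Fin.sum_univ_three, P, eval_lin] using this
    simp only [Finset.mem_insert, Finset.mem_singleton] at hi
    rcases hi with rfl | rfl | rfl
    · exact hj 0
    · exact hj 1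
    · exact hj 2
  have hPu : IsUnit P.det := Ne.isUnit hPdet
  let y : (Fin 3 → k) → Fin 3 → k := fun x => Matrix.mulVec P⁻¹ x
  have hxy : ∀ x, Matrix.mulVec P (y x) = x := fun x => by
    rw [Matrix.mulVec_mulVec, Matrix.mul_nonsing_inv _ hPu, Matrix.one_mulVec]
  obtain ⟨A, B, D, hform⟩ : ∃ A B D : k, ∀ z : Fin 3 → k,
      eval (Matrix.mulVec P z) (quad c) = A * (z 1 * z 2) + B * (z 0 * z 2) + D * (z 0 * z 1) := by
    let pol : (Fin 3 → k) → (Fin 3 → k) → k := fun v w =>
      eval (v + w) (quad c) - eval v (quad c) - eval w (quad c)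
    refine ⟨pol (p 1) (p 2), pol (p 0) (p 2), pol (p 0) (p 1), fun z => ?_⟩
    have e0 := hvan 0; have e1 := hvan 1; have e2 := hvan 2
    simp only [pol, eval_quad, Pi.add_apply, Matrix.mulVec, dotProduct, Fin.sum_univ_three, P, Matrix.of_apply,
      show (Fin.castLE (by omega) (0 : Fin 3) : Fin 5) = 0 from rfl,
      show (Fin.castLE (by omega) (1 : Fin 3) : Fin 5) = 1 from rfl,
      show (Fin.castLE (by omega) (2 : Fin 3) : Fin 5) = 2 from rfl] at e0 e1 e2 ⊢
    linear_combination (z 0 ^ 2) * e0 + (z 1 ^ 2) * e1 + (z 2 ^ 2) * e2 +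
      (z 1 * z 2) * (e1 + e2) - (z 1 * z 2) * (e1 + e2) + 0 * e0
  -- the rows of the inverse
  let r : Fin 3 → Fin 3 → k := fun j i => P⁻¹ j i
  have hr : ∀ x j, eval x (lin (r j)) = y x j := fun x j => by
    simp [eval_lin, y, r, Matrix.mulVec, dotProduct, Fin.sum_univ_three]
  have hr0 : ∀ j, r j ≠ 0 := fun j h => by
    have h1 := congrFun (congrFun (Matrix.nonsing_inv_mul _ hPu) j) j
    rw [Matrix.mul_apply] at h1
    simp [show ∀ i, P⁻¹ j i = 0 from congrFun h] at h1
  have hval : ∀ x, eval x (quad c) = A * (y x 1 * y x 2) + B * (y x 0 * y x 2) + D * (y x 0 * y x 1) := fun x => by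
    conv_lhs => rw [← hxy x]
    exact hform (y x)
  have hA : A ≠ 0 := fun h => by
    rcases htwo (r 0) (B • r 2 + D • r 1) fun i => by
        have h1 := (hval (p i)).symm.trans (hvan i)
        rw [hr, eval_lin]
        simp only [Pi.add_apply, Pi.smul_apply, smul_eq_mul]
        rw [h] at h1
        have : y (p i) 0 * (B * y (p i) 2 + D * y (p i) 1) = 0 := by linear_combination h1
        refine (mul_eq_zero.1 this).imp id fun h2 => ?_
        rw [← hr, ← hr, eval_lin, eval_lin] at h2
        linear_combination h2 with h' | h'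
    · exact hr0 0 h'
    · refine quad_ne_zero hc (MvPolynomial.funext fun x => ?_)
      have h3 := congrArg (fun w => eval x (lin w)) h'
      simp only [eval_lin, Pi.add_apply, Pi.smul_apply, smul_eq_mul, Pi.zero_apply] at h3
      have h4 := hr x 1; have h5 := hr x 2
      rw [eval_lin] at h4 h5
      rw [map_zero, hval, h]
      linear_combination (y x 0) * h3 - (B * y x 0) * h5 - (D * y x 0) * h4
  have hB : B ≠ 0 := fun h => by
    rcases htwo (r 1) (A • r 2 + D • r 0) fun i => by
        have h1 := (hval (p i)).symm.trans (hvan i)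
        rw [hr, eval_lin]
        simp only [Pi.add_apply, Pi.smul_apply, smul_eq_mul]
        rw [h] at h1
        have : y (p i) 1 * (A * y (p i) 2 + D * y (p i) 0) = 0 := by linear_combination h1
        refine (mul_eq_zero.1 this).imp id fun h2 => ?_
        rw [← hr, ← hr, eval_lin, eval_lin] at h2
        linear_combination h2 with h' | h'
    · exact hr0 1 h'
    · refine quad_ne_zero hc (MvPolynomial.funext fun x => ?_)
      have h3 := congrArg (fun w => eval x (lin w)) h'
      simp only [eval_lin, Pi.add_apply, Pi.smul_apply, smul_eq_mul, Pi.zero_apply] at h3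
      have h4 := hr x 0; have h5 := hr x 2
      rw [eval_lin] at h4 h5
      rw [map_zero, hval, h]
      linear_combination (y x 1) * h3 - (A * y x 1) * h5 - (D * y x 1) * h4
  have hD : D ≠ 0 := fun h => by
    rcases htwo (r 2) (A • r 1 + B • r 0) fun i => by
        have h1 := (hval (p i)).symm.trans (hvan i)
        rw [hr, eval_lin]
        simp only [Pi.add_apply, Pi.smul_apply, smul_eq_mul]
        rw [h] at h1
        have : y (p i) 2 * (A * y (p i) 1 + B * y (p i) 0) = 0 := by linear_combination h1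
        refine (mul_eq_zero.1 this).imp id fun h2 => ?_
        rw [← hr, ← hr, eval_lin, eval_lin] at h2
        linear_combination h2 with h' | h'
    · exact hr0 2 h'
    · refine quad_ne_zero hc (MvPolynomial.funext fun x => ?_)
      have h3 := congrArg (fun w => eval x (lin w)) h'
      simp only [eval_lin, Pi.add_apply, Pi.smul_apply, smul_eq_mul, Pi.zero_apply] at h3
      have h4 := hr x 0; have h5 := hr x 1
      rw [eval_lin] at h4 h5
      rw [map_zero, hval, h]
      linear_combination (y x 2) * h3 - (A * y x 2) * h5 - (B * y x 2) * h4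
  -- the parametrisation
  let ψ : Fin 3 → MvPolynomial (Fin 2) k :=
    ![C A * (X 0 * (X 0 + X 1)), C B * (X 1 * (X 0 + X 1)), C (-D) * (X 0 * X 1)]
  have hψ : ∀ j, (ψ j).IsHomogeneous 2 := fun j => by
    fin_cases j <;> simp only [ψ] <;> refine IsHomogeneous.C_mul ?_ _
    · exact (isHomogeneous_X k 0).mul ((isHomogeneous_X k 0).add (isHomogeneous_X k 1))
    · exact (isHomogeneous_X k 1).mul ((isHomogeneous_X k 0).add (isHomogeneous_X k 1))
    · exact (isHomogeneous_X k 0).mul (isHomogeneous_X k 1)
  refine ⟨quad c, fun i => ∑ j, C (P i j) * ψ j, hirr, isHomogeneous_quad c, hvan,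
    fun i => IsHomogeneous.sum _ _ _ fun j _ => (hψ j).C_mul _, fun x hx hxQ => ?_⟩
  have h1 := (hval x).symm.trans hxQ
  suffices ∃ (a : Fin 2 → k) (t : k), a ≠ 0 ∧ t ≠ 0 ∧ (fun j => eval a (ψ j)) = t • y x by
    obtain ⟨a, t, ha, ht, hat⟩ := this
    refine ⟨a, t, ha, ht, funext fun i => ?_⟩
    have h2 : eval a (∑ j, C (P i j) * ψ j) = (Matrix.mulVec P (t • y x)) i := by
      rw [← hat]
      simp [Matrix.mulVec, dotProduct, map_sum]
    rw [h2, Matrix.mulVec_smul, hxy]
  have hy : y x ≠ 0 := fun e => hx (by rw [← hxy x, e, Matrix.mulVec_zero])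
  by_cases h01 : y x 0 / A + y x 1 / B ≠ 0
  · refine ⟨![y x 0 / A, y x 1 / B], y x 0 / A + y x 1 / B, fun e => h01 ?_, h01, funext fun j => ?_⟩
    · have e0 := congrFun e 0
      have e1 := congrFun e 1
      simp only [Matrix.cons_val_zero, Matrix.cons_val_one, Pi.zero_apply] at e0 e1
      rw [e0, e1, add_zero]
    · fin_cases j <;> simp [ψ]
      · field_simp
      · field_simp
      · field_simp
        linear_combination -h1
  · push Not at h01
    have hz : y x 0 = 0 ∧ y x 1 = 0 := by
      have h1' : y x 1 = -(B * y x 0) / A := by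
        field_simp at h01 ⊢
        linear_combination h01
      have h2 : D * (B / A) * (y x 0 * y x 0) = 0 := by
        rw [h1'] at h1
        field_simp at h1 ⊢
        linear_combination -h1
      have h3 : y x 0 = 0 := by simpa [hD, hB, hA] using h2
      exact ⟨h3, by rw [h1', h3]; simp⟩
    have h2 : y x 2 ≠ 0 := fun e => hy (funext fun j => by fin_cases j <;> simp [hz, e])
    refine ⟨![1, -1], D / y x 2, fun e => one_ne_zero (congrFun e 0), div_ne_zero hD h2, funext fun j => ?_⟩
    fin_cases j <;> simp [ψ, hz, h2]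

/-- A reduced quartic has at most six singular points. -/
theorem card_sing_quartic {f : MvPolynomial (Fin 3) k} (hf : f.IsHomogeneous 4) (hred : Squarefree f)
    (s : Finset P2) (hs : ∀ p ∈ s, Sing f p.rep) : s.card ≤ 6 := by
  classical
  by_cases hline : ∃ c : Fin 3 → k, c ≠ 0 ∧ ∃ t ⊆ s, 3 ≤ t.card ∧ ∀ p ∈ t, eval p.rep (lin c) = 0
  · obtain ⟨c, hc, t, hts, ht, htc⟩ := hline
    have hdvd : lin c ∣ f := lin_dvd hc four_pos hf t 2 (Or.inr rfl) htc
      (fun p hp => (hs p (hts hp)).1) (fun _ p hp => hs p (hts hp)) (by omega)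
    exact card_le_of_lin hc hf three_pos hred hdvd (fun g hg hgsq => card_sing_cubic hg hgsq) s hs
  push Not at hline
  by_contra h
  obtain ⟨t, hts, ht⟩ := Finset.exists_subset_card_eq (show 5 ≤ s.card by omega)
  let e := (t.equivFinOfCardEq ht).symm
  obtain ⟨Q, φ, hirr, hQh, hvan, hφ, honto⟩ := exists_param (fun i => (e i : P2).rep)
    (fun i => (e i : P2).rep_nonzero) fun c hc S hS => by
      obtain ⟨p, hp, hne⟩ := hline c hc (S.image fun i => (e i : P2))
        (fun p hp => by obtain ⟨i, -, rfl⟩ := Finset.mem_image.1 hp; exact hts (e i).2)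
        (by
          rw [Finset.card_image_of_injective _ (f := fun i => (e i : P2))
            fun i j hij => e.injective (Subtype.ext hij)]
          exact hS)
      obtain ⟨i, hi, rfl⟩ := Finset.mem_image.1 hp
      exact ⟨i, hi, hne⟩
  have hQs : ∀ p ∈ t, eval p.rep Q = 0 := fun p hp => by
    have := hvan (e.symm ⟨p, hp⟩)
    simpa using this
  obtain ⟨g, rfl⟩ : Q ∣ f := dvd_of_curve hirr.squarefree φ hφ honto four_pos hf t 2 (Or.inr rfl) hQs
    (fun p hp => (hs p (hts hp)).1) (fun _ p hp => hs p (hts hp)) (by omega)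
  have hg : g.IsHomogeneous 2 := isHomogeneous_of_mul hQh hirr.ne_zero hf
  let sC := s.filter fun p => eval p.rep Q = 0 ∧ eval p.rep g = 0
  let sQ := s.filter fun p => Sing Q p.rep
  let sG := s.filter fun p => Sing g p.rep
  have hsub : s ⊆ sC ∪ (sQ ∪ sG) := fun p hp => by
    rcases sing_mul (hs p hp) with h | h | h
    · exact Finset.mem_union_right _ (Finset.mem_union_left _ (Finset.mem_filter.2 ⟨hp, h⟩))
    · exact Finset.mem_union_right _ (Finset.mem_union_right _ (Finset.mem_filter.2 ⟨hp, h⟩))
    · exact Finset.mem_union_left _ (Finset.mem_filter.2 ⟨hp, h⟩)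
  have hC : sC.card ≤ 4 := by
    by_contra h4
    have hdv := dvd_of_curve hirr.squarefree φ hφ honto two_pos hg sC 1 (Or.inl rfl)
      (fun p hp => (Finset.mem_filter.1 hp).2.1) (fun p hp => (Finset.mem_filter.1 hp).2.2)
      (fun h => absurd h (by norm_num)) (by omega)
    exact hirr.not_isUnit (hred _ (mul_dvd_mul_left _ hdv))
  have hQ1 := card_sing_conic hQh hirr.squarefree sQ fun p hp => (Finset.mem_filter.1 hp).2
  have hG1 := card_sing_conic hg hred.of_mul_right sG fun p hp => (Finset.mem_filter.1 hp).2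
  have := (Finset.card_le_card hsub).trans ((Finset.card_union_le _ _).trans
    (add_le_add hC ((Finset.card_union_le _ _).trans (add_le_add hQ1 hG1))))
  omega

end Groth.Agent.H23Quartic
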